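import Mathlib
import Cfsg.Agent.Q17.Gen
import Cfsg.Agent.Spor.SylM24UT
import Cfsg.Agent.Wr.M24A

/-!
Facts for `M₂₄` (Out trivial; `Q16/Spor`, `Q16/XA`). 2B: `C = 2⁶ : S₅`, `X = R1 3 C = 2⁶ : A₅`; `t3s_of_sq`: squares of order two of elements of `X` are 2A (cycle type; the 4C elements lie outside `X`), and some such `w` has `a w ∼ a`. CHECK BY COMPUTER FIRST.
-/

set_option autoImplicit false
set_option linter.unusedSectionVars false
set_option linter.style.haveILetI false

namespace Cfsg.Agent.Q17

open Cfsg Subgroup Cfsg.Agent.PLocal Cfsg.Agent.PLocal.Amb Cfsg.Agent.Trm Cfsg.Agent.Q16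
open scoped commutatorElement

section

open Cfsg.Agent.Comp Cfsg.Agent.Spor Cfsg.Agent.Spor.M24C
open scoped Pointwise

theorem m24_center : center M24 = ⊥ := by
  haveI := S0365.result
  refine (IsSimpleGroup.eq_bot_or_eq_top_of_normal (center M24) inferInstance).resolve_right fun h => ?_
  have h1 : centralizer {mc z2} = ⊤ := centralizer_eq_top_iff_subset.2 (by rw [h]; exact Set.subset_univ _)
  have := S5607.card_C
  rw [h1, card_top, card_M24] at this
  omega

theorem m24_inn (α : MulAut M24) : α ∈ Inn M24 :=
  (QuotientGroup.eq_one_iff α).1 ((Nat.card_eq_one_iff_unique.1 S2064.result).1.elim _ _)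

theorem m24_twoC {a : M24} (h : orderOf a = 2) (h0 : (fixSet (a : Equiv.Perm GolayPt)).card ≠ 0) :
    TwoC a := by
  obtain ⟨k, rfl⟩ := conj_z1 h h0
  refine TwoC.conj ⟨orderOf_z1, ?_⟩ k
  have h1 := (centralizer {mc z1}).index_mul_card
  rw [show Nat.card (centralizer {mc z1}) = 21504 from Wr.MC.card_H, card_M24] at h1
  omega

theorem m24_pi : Pi M24 3 := by
  have ha := okM_x1
  have hb : okM 774039628802538041365791843825188929 = true := by decide +kernel
  refine ⟨by norm_num, by norm_num, XRu.rank_pair (a := mc x1) (b := mc 774039628802538041365791843825188929)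
    ?_ (orderOf_x1 ▸ pow_orderOf_eq_one _) ?_ fun H h1 h2 => ?_, fun α _ => Or.inl (m24_inn α)⟩
  · rw [commute_iff_eq, mc_mul ha hb, mc_mul hb ha]
    exact congrArg mc (by decide +kernel)
  · rw [eq_iff_code, code_pow', code_mc hb, code_one']
    decide +kernel
  · exact card_ge_of_slp (l := [x1, 774039628802538041365791843825188929]) (List.forall_mem_cons.2
      ⟨inH_of_okM ha h1, List.forall_mem_singleton.2 (inH_of_okM hb h2)⟩) [] 5 3 [[0, 1]] (by decide +kernel)

/-- ten unions of three tetrads, an orbit of `2⁶ : A₅` -/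
def m24Fam : ℕ := 0xd0f983c2ddb0b4708fad52cc8b56f06d8b4c668d3c59ab4336243f1b2673

/-- the group `2⁶ : A₅` -/
noncomputable def m24X : Subgroup M24 := centralizer {mc z2} ⊓ MulAction.stabilizer M24 (famOf 10 m24Fam)

/-- transversals for `2⁶ : A₅` -/
def m24U : ℕ := 0x242b45c8f6329a59b9098bd97188200000000000000000000000000000000000000000000000000000000000000000000000000000000000000000000000000000000000000000000000000000000000000000000000000000003a2b4348895b1ae79616bcd511882000000000000000000000000000000000000000000000000000000000000054eb4b498b491b185de62a0ee1882000000000000000000000000000000029ab4449cf845a449d7355aec1882000000000000000000000000000000072eb4848b345da7b10cf6262a188200000000000000000000000000000000000000000000000000000000000008a6b47cae8995aa332d022dc71882000000000000000000000000000000063eb44c946b1db74466b7408518820bdab49ca307b9ac5a928398a4188200000000000000000000000000000000000000000000000000000000000000000000000000000000000000000000000000000000000000000000000001a8f44b9e6255a22ae71942c865c209957493ee38a5a653044855c74582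024c5478dc84a9a581ec68aeec9542000000000000000000000000000000043214126353adb672a5778ca434c2072074989505dda77c53661885ac8201b094b166b3d5a2719f7921305442043a7419952badb6646a7788854c020bc91425a11139ac1a555394d35bc201299485ed3249a32a0d1aa5eb3b820000000000000000000000000000000799d451ea5859ab4c89344462bb02060ed422271a9db791942715307ac201dcb479128755a23c2cc92e668a820548d474d6c111b11bef529d1682420389f422cd1931aeacd43b9609b2020196f4831738d5a253cc49251671c208d5346416e195aa13cf225d16998204ad543c45744db0b0d8f33a552142091e34b292b609b5bc1ee1a26629020226544558f9a9a535d708d8ee10c20bdab49ca307b9ac5a928398a418820000000000000000000000000000000000000000000000000000000000000a0d0e35a29a80ed92a020cca45bd9728cef9b9b0ac564951225182065d16b1a23729ac83c484d2f359c2029255845601bef229829232aa989c7459b48d2e97b2a80160a0cacd22c6271cd36ba224a9e6b847462e67042c8292b2b0ee50b214abc88925a2580d371d51b0a86bb4a793e68a91c35b22a00530384b6492a66b10ea4a60bc0628a96f7c437800732d98b208ca426b26d0ee2a46140aef9c40433170559c7aca8d23e076a6a0b29c54482b8d06234eec94ca8012ed48ad583286185c78a9eb641040586d31cb798a89706b25be2a5845320ef16a0cfa3140b15c7956093506bb8a27041f30a9cd4b0a4acac8199ac8d164856e24bcb392916081c70d950145d57b52059e48a0eec2166635db1b52ab741533c9ec4a0620808540cea0b934aae36941a27826665ca4536d57212c09251042f429e667ac43b1532040ed8bea853a84585979986254a0dba5e7112911add52b2c834c01bdab49ca307b9ac5a928398a418820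

theorem m24_lower : Lower m24X 4160 3 0x8254b0efdffcffffff m24U :=
  lower_of_ok (inH := fun c => and' (and' (okM c) (Nat.beq (conjC c z2) z2)) (fixF 10 c m24Fam))
    (fun c h => by
      rw [and'_eq_true] at h
      have h1 := ((and'_eq_true _ _).1 h.1).1
      exact inH_of_okM h1 ⟨(inH_centralizer okM_z2 h.1).mc_mem, mc_mem_stabilizer_fam h1 h.2⟩)
    (by decide +kernel)

theorem m24_idx : m24X.relIndex (centralizer {mc z2}) = 2 ∧ Nat.card m24X = 3840 := by
  have h1 : 3840 ≤ Nat.card m24X := le_of_eq_of_le (by decide +kernel) m24_lower.card_ge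
  have h2 := (m24X.subgroupOf (centralizer {mc z2})).index_mul_card
  rw [S5607.card_C, Nat.card_congr (subgroupOfEquivOfLe (show m24X ≤ _ from inf_le_left)).toEquiv] at h2
  have h3 : m24X.relIndex (centralizer {mc z2}) ≠ 1 := fun h => by
    have h4 := S5607.gens_C 105599117279294626138024980877353367 (by simp)
    have h5 := (fixF_iff 10 _ m24Fam).2 (relIndex_eq_one.1 h h4.mc_mem).2
    rw [h4.code_mc] at h5
    revert h5
    decide +kernel
  change m24X.relIndex _ * _ = _ at h2
  generalize m24X.relIndex (centralizer {mc z2}) = r at h2 h3 ⊢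
  have h4 : r ≤ 2 := by nlinarith
  interval_cases r <;> omega

theorem m24_le : R1 3 (centralizer {mc z2}) ≤ m24X := (closure_le _).2 fun x hx => by
  have := mul_self_mem_of_index_two m24_idx.1 ⟨x * x, mul_mem hx.1 hx.1⟩
  rw [mem_subgroupOf, coe_mul, show x * x * (x * x) = x ^ 3 * x by simp only [pow_succ, pow_zero, one_mul, mul_assoc],
    hx.2, one_mul] at this
  exact this

theorem m24_scan (g : M24) (h : g ∈ m24X) (h4 : g * g * (g * g) = 1) :
    (fixSet (g * g : M24)).card ≠ 0 := fun h0 => by
  refine (m24_lower.isChain (m24_idx.2.trans_le (by decide +kernel))).not_of_srch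
    (fun g => g * g * (g * g) = 1 ∧ (fixSet (g * g : M24)).card = 0) (fun _ _ _ => true)
    (fun c => allLT 24 fun i => force (dg c (dg c i)) fun y =>
      and' (not' (Nat.beq y i)) (Nat.beq (dg c (dg c y)) i))
    (fun g _ h => ?_) (fun _ _ _ _ _ _ _ _ => rfl) 3 le_rfl (inH_one _) (by decide +kernel)
    (fun j hj => by omega) g h (fun j hj => by omega) ⟨h4, h0⟩
  simp only [allLT_iff, force_eq, and'_eq_true, not'_eq_true, beq_iff]
  intro i hi
  rw [← ix_smul_pt g hi, ← ix_smul, ← ix_smul, ← ix_smul, ← mul_smul, ← mul_smul, ← mul_smul,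
    h.1, one_smul, ix_pt hi]
  refine ⟨fun c => ?_, rfl⟩
  have : pt i ∈ fixSet (g * g : M24) := mem_fixSet.2 ((pt_ix _).symm.trans (congrArg pt c))
  rw [Finset.card_eq_zero.1 h.2] at this
  exact absurd this (Finset.notMem_empty _)

theorem m24_t3s : T3s 3 (MulAut.conj (mc z2)) := by
  have hu : InH (centralizer {mc z2}) 336497909148981451493612753183464612 :=
    inH_centralizer okM_z2 (by decide +kernel)
  have hv : InH (centralizer {mc z2}) 556252859714749654410782692872506735 :=
    inH_centralizer okM_z2 (by decide +kernel)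
  have hy : okM 23552019014283081002291745010291913 = true := by decide +kernel
  refine t3s_of_sq (y := mc 23552019014283081002291745010291913)
    (c := mc 336497909148981451493612753183464612 * mc 556252859714749654410782692872506735)
    (by rw [← map_mul, gen_sq_of_two orderOf_z2, map_one]) ?_ ?_ ?_ fun b hb h => ?_
  · rw [fixed_conj]
    refine mul_mem (subset_closure ⟨hu.mc_mem, ?_⟩) (subset_closure ⟨hv.mc_mem, ?_⟩)
    · rw [eq_iff_code, code_pow', hu.code_mc, code_one']
      decide +kernel
    · rw [eq_iff_code, code_pow', hv.code_mc, code_one']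
      decide +kernel
  · rw [MulAut.conj_apply, eq_inv_mul_iff_mul_eq, eq_iff_code, code_conj']
    simp only [code_mul', hu.code_mc, hv.code_mc, code_mc hy, code_mc okM_z2]
    decide +kernel
  · rw [Ne, eq_iff_code]
    simp only [code_mul', hu.code_mc, hv.code_mc, code_one']
    decide +kernel
  · rw [fixed_conj] at hb
    exact (tc_iff m24_center (gen_sq_of_two h)).2 (m24_twoC h (m24_scan b (m24_le hb) (gen_sq_of_two h)))

end

theorem c2_M24 : C2F M24 := by
  obtain ⟨U⟩ : Nonempty (Sylow 2 M24) := inferInstance
  obtain ⟨e⟩ := Spor.SylM24UT.exists_equiv U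
  refine c2f_of m24_center U (fun a ha b hb a1 b1 => ?_) fun ρ _ h => absurd (m24_inn ρ) h
  have k : ∀ a (ha : a ∈ Om (U : Subgroup M24)), a ≠ 1 → a = e SylT.UT.z := fun a ha a1 => by
    rcases (SylT.UT.mem_center (x := e.symm ⟨a, ha.1⟩)).1 (mem_center_iff.2 fun x => e.injective (by
      rw [map_mul, map_mul, e.apply_symm_apply]
      exact Subtype.ext (ha.2.2 _ (e x).2))) with c | c
    · exact absurd (congrArg Subtype.val (e.symm.map_eq_one_iff.1 c)) a1
    · rw [← c, e.apply_symm_apply]
  rw [k a ha a1, k b hb b1]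

theorem r1_M24 : R1F M24 := fun ρ h => by
  obtain ⟨a, rfl⟩ := m24_inn ρ
  rw [orderOf_injective MulAut.conj (conj_injective m24_center)] at h
  by_cases h0 : (Spor.M24C.fixSet (a : Equiv.Perm GolayPt)).card = 0
  · obtain ⟨k, rfl⟩ := Spor.M24C.conj_z2 h (by omega)
    rw [map_mul, map_mul, map_inv]
    exact Or.inr ((m24_t3s.conj _).t3 m24_center m24_pi)
  · exact Or.inl (gen_twoC_cen m24_center (m24_twoC h h0))

end Cfsg.Agent.Q17
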