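import Mathlib
import Cfsg.Agent.Q16.Sp4

/-! Matrix computations in `Sp₄(q)`, `q` even: torus, Borel subgroup, elements of order three. -/

set_option autoImplicit false
set_option linter.unusedSectionVars false

namespace Cfsg.Agent.Q17.S4

open Cfsg Subgroup Cfsg.Agent.Q16 Matrix SpF

variable {F : Type} [Field F]

/-- `SL₂ × SL₂` -/
def dd (a b c d a' b' c' d' : F) (h : a * d - c * b = 1) (h' : a' * d' - c' * b' = 1) :
    symplecticGroup (Fin 2) F :=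
  ⟨fromBlocks !![a, 0; 0, a'] !![b, 0; 0, b'] !![c, 0; 0, c'] !![d, 0; 0, d'],
    SymplecticGroup.fromBlocks_mem_iff.2 (by
      refine ⟨?_, ?_, ?_⟩ <;> ext i j <;> fin_cases i <;> fin_cases j <;>
        simp [Matrix.mul_apply, mul_comm] <;> grind)⟩

/-- the torus -/
def hT (a b : Fˣ) : symplecticGroup (Fin 2) F :=
  dd a 0 0 (a⁻¹ : Fˣ) b 0 0 (b⁻¹ : Fˣ) (by simp) (by simp)

/-- the action of the torus -/
def τ (a b : Fˣ) (y : U F) : U F := ⟨a / b * y.t, b ^ 2 * y.u, a * b * y.v, a ^ 2 * y.w⟩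

/-- a Weyl element -/
def sW : symplecticGroup (Fin 2) F :=
  ⟨fromBlocks !![0, 1; 1, 0] 0 0 !![0, 1; 1, 0], SymplecticGroup.fromBlocks_mem_iff.2 (by
    refine ⟨?_, ?_, ?_⟩ <;> ext i j <;> fin_cases i <;> fin_cases j <;> simp [Matrix.mul_apply])⟩

/-- elements of order three -/
def rr (l : Fˣ) : symplecticGroup (Fin 2) F :=
  dd 1 0 0 1 0 (-(l⁻¹ : Fˣ)) l (-1) (by simp) (by simp)

/-- another one -/
def r0 : symplecticGroup (Fin 2) F := dd 0 (-1) 1 (-1) 1 0 0 1 (by simp) (by simp)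

local macro "mx" : tactic => `(tactic| (
  refine Subtype.ext ?_
  ext i j
  rcases i with i | i <;> rcases j with j | j <;> fin_cases i <;> fin_cases j <;>
    simp [hT, τ, sW, rr, r0, dd, U.toSp, fromBlocks_multiply, pow_succ]))

theorem hT_mul (a b : Fˣ) (y : U F) : hT a b * U.toSp y = U.toSp (τ a b y) * hT a b := by
  mx <;> field_simp

theorem hT_one : hT (1 : Fˣ) 1 = 1 := by mx

theorem sW_mul (u v w : F) : sW * U.toSp ⟨0, u, v, w⟩ = U.toSp ⟨0, w, v, u⟩ * sW := by mx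

theorem rr_pow (l : Fˣ) : rr l ^ 3 = 1 := by mx

theorem r0_pow : (r0 : symplecticGroup (Fin 2) F) ^ 3 = 1 := by mx

theorem rr_r0 (l : Fˣ) : rr l * r0 = r0 * rr l := by mx

theorem rr_comm (l : Fˣ) (w : F) : rr l * U.toSp ⟨0, 0, 0, w⟩ = U.toSp ⟨0, 0, 0, w⟩ * rr l := by mx

theorem rr_eq (l : Fˣ) : rr l = rr 1 * (U.toSp ⟨0, 1 - (l : F), 0, 0⟩ * hT 1 l) := by
  mx
  field_simp
  ring

theorem r0_ne : (r0 : symplecticGroup (Fin 2) F) * U.toSp ⟨0, 0, 0, 1⟩ ≠ U.toSp ⟨0, 0, 0, 1⟩ * r0 :=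
  fun e => by
    simpa [r0, dd, U.toSp, fromBlocks_multiply] using
      congrFun (congrFun (congrArg Subtype.val e) (.inl 0)) (.inl 0)

theorem rr_ne : rr (1 : Fˣ) ≠ 1 := fun e => by
  simpa [rr, dd] using congrFun (congrFun (congrArg Subtype.val e) (.inl 1)) (.inl 1)

theorem borel {n : symplecticGroup (Fin 2) F} {a b c d : F}
    (h1 : n * U.toSp ⟨0, 0, 1, 0⟩ = U.toSp ⟨0, 0, a, b⟩ * n)
    (h2 : n * U.toSp ⟨0, 0, 0, 1⟩ = U.toSp ⟨0, 0, c, d⟩ * n) :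
    ∃ x a b, n = U.toSp x * hT a b := by
  obtain ⟨n, hn⟩ := n
  obtain ⟨A, B, C, D, rfl⟩ : ∃ A B C D, n = fromBlocks A B C D := ⟨_, _, _, _, (fromBlocks_toBlocks n).symm⟩
  obtain ⟨-, s2, s3⟩ := SymplecticGroup.fromBlocks_mem_iff.1 hn
  replace h1 := congrArg Subtype.val h1
  replace h2 := congrArg Subtype.val h2
  simp only [U.toSp, MonoidHom.mk'_apply, Submonoid.mk_mul_mk, fromBlocks_multiply, fromBlocks_inj] at h1 h2
  simp [← Matrix.ext_iff, Matrix.mul_apply, vecMul, dotProduct] at h1 h2 s2 s3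
  obtain ⟨-, ⟨-, p2, p3⟩, ⟨c1, c0⟩, c3, c2⟩ := h1
  obtain ⟨-, ⟨-, q2, q3⟩, -⟩ := h2
  obtain ⟨⟨-, s2⟩, -⟩ := s2
  simp only [c0, c1, c2, c3, zero_mul, add_zero, sub_zero] at s3
  obtain ⟨⟨s3, s4⟩, s5, s6⟩ := s3
  have d1 : D 0 1 = 0 := by
    refine q3.elim (fun c0 => by_contra fun d1 => ?_) id
    have a1 : A 1 0 = 0 := by simpa [c0] using q2
    have a0 : a = 0 := by simpa [a1, d1] using p3
    have a3 : A 1 1 = 0 := by simpa [a0] using p2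
    simp [a1, d1] at s3 s4
    simp [s4] at s3
  have a1 : A 1 0 = 0 := by simpa [d1] using p3
  simp only [a1, d1, zero_mul, mul_zero, add_zero, zero_add] at s2 s3 s6
  have a0 : A 0 0 ≠ 0 := left_ne_zero_of_mul_eq_one s3
  have a3 : A 1 1 ≠ 0 := left_ne_zero_of_mul_eq_one s6
  refine ⟨⟨A 0 1 / A 1 1, B 1 1 * A 1 1, B 0 1 * A 1 1, B 0 0 * A 0 0 + A 0 1 * B 0 1⟩,
    Units.mk0 _ a0, Units.mk0 _ a3, ?_⟩
  mx <;> (try field_simp) <;> grind

end Cfsg.Agent.Q17.S4
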